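import Groth.Agent.Lib.HilbFlat10.Fibre
import Groth.Agent.Lib.BCCrit.Reduced
import Groth.Agent.Lib.FlatCx.Up
import Groth.Agent.Lib.ProjCoh.Finite

/-!
# Flatness from the Euler characteristics of the fibres
-/

set_option autoImplicit false
set_option linter.all false
set_option backward.isDefEq.respectTransparency false
set_option maxHeartbeats 1000000

universe u

open CategoryTheory CategoryTheory.Limits AlgebraicGeometry Opposite TopologicalSpace TensorProduct
open GrothLib.Ample (Cocycle)
open GrothLib.BCCoh (secA appA psiR)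
open GrothLib.EulerConst10 (fibEuler)

noncomputable section

namespace GrothLib.HilbFlat10

variable {X X' : Scheme.{u}}

/-- Twists commute with pullback. -/
theorem nonempty_pullback_modTwist (g : X' ⟶ X) (c : Cocycle X) (F : X.Modules) (n : ℕ) :
    Nonempty ((Scheme.Modules.pullback g).obj (c.modTwist F n) ≅
      (c.comap g).modTwist ((Scheme.Modules.pullback g).obj F) n) := by
  let L := c.twist 1
  obtain ⟨d⟩ := c.nonempty_tensorPow_iso (Iso.refl L) n
  obtain ⟨q⟩ := c.nonempty_tensor_modTwist F n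
  obtain ⟨e⟩ := EulerConst10.nonempty_pullback_tensorPows g F (fun _ : Fin 1 => L)
    (fun _ => c.isInvertible_twist 1) (fun _ => n)
  obtain ⟨e'⟩ := c.nonempty_pullback_twist g 1
  obtain ⟨d'⟩ := (c.comap g).nonempty_tensorPow_iso e' n
  obtain ⟨q'⟩ := (c.comap g).nonempty_tensor_modTwist ((Scheme.Modules.pullback g).obj F) n
  exact ⟨(Scheme.Modules.pullback g).mapIso (q.symm ≪≫ (((DCoh.tensorBi (X := X)).obj F).mapIso d).symm) ≪≫
    e ≪≫ ((DCoh.tensorBi (X := X')).obj _).mapIso d' ≪≫ q'⟩

/-- Ampleness of a cocycle is inherited along affine morphisms. -/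
theorem isAmp_comap (g : X' ⟶ X) [IsAffineHom g] [CompactSpace X] {c : Cocycle X} (hc : c.IsAmp) :
    (c.comap g).IsAmp := by
  obtain ⟨e⟩ := c.nonempty_pullback_twist g 1
  exact (((c.comap g).isAmple_iff e).1
    (Ample.isAmple_pullback_of_isAffineHom g ((c.isAmple_iff (Iso.refl _)).2 ⟨inferInstance, hc⟩))).2

/-- Degree zero cohomology is the sections, linearly. -/
def h0Sec {A : Type u} [CommRing A] (f : X ⟶ Spec (CommRingCat.of A)) (G : X.Modules) :
    letI := BCCoh.modHH f G 0
    Coh.HH X G 0 ≃ₗ[A] secA f G ⊤ :=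
  letI : X.Over (Spec (CommRingCat.of A)) := ⟨f⟩
  letI := BCCoh.modHH f G 0
  { ProjCoh.H0top G with
    map_smul' := fun r x => by
      refine (ProjCoh.H0top_smul G r x).trans ?_
      show (show Γ(X, ⊤) from Coh.toGlobal f r) • ProjCoh.H0top G x =
        (show Γ(X, ⊤) from psiR f ⊤ r) • ProjCoh.H0top G x
      refine congrArg (fun b : Γ(X, ⊤) => b • ProjCoh.H0top G x) ?_
      exact (congrArg (fun φ ↦ (CommRingCat.Hom.hom φ) _) (X.presheaf.map_id (op ⊤))).symm }

/-- Sections of isomorphic modules. -/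
def secIso {A : Type u} [CommRing A] (f : X ⟶ Spec (CommRingCat.of A)) {G G' : X.Modules} (e : G ≅ G') :
    secA f G ⊤ ≃ₗ[A] secA f G' ⊤ :=
  LinearEquiv.ofLinear (appA f e.hom ⊤) (appA f e.inv ⊤)
    (LinearMap.ext fun z => by
      show appA f (e.inv ≫ e.hom) ⊤ z = z
      rw [e.inv_hom_id]; rfl)
    (LinearMap.ext fun z => by
      show appA f (e.hom ≫ e.inv) ⊤ z = z
      rw [e.hom_inv_id]; rfl)

/-- Global sections commute with flat base change. -/
theorem exists_sections_baseChange {A B : Type u} [CommRing A] [CommRing B] [inst : Algebra A B] [Module.Flat A B]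
    (f : X ⟶ Spec (CommRingCat.of A)) (f₁ : X' ⟶ Spec (CommRingCat.of B)) (g : X' ⟶ X)
    (H : IsPullback g f₁ f (Spec.map (CommRingCat.ofHom (algebraMap A B)))) [CompactSpace X] [X.IsSeparated]
    (G : X.Modules) [G.IsQuasicoherent] :
    Nonempty (B ⊗[A] secA f G ⊤ ≃ₗ[B] secA f₁ ((Scheme.Modules.pullback g).obj G) ⊤) := by
  obtain ⟨φ, rfl⟩ : ∃ φ : A →+* B, inst = φ.toAlgebra :=
    ⟨algebraMap A B, Algebra.algebra_ext _ _ fun r => rfl⟩
  letI := φ.toAlgebra
  obtain ⟨eb⟩ := BCCoh.exists_flatBC φ (RingHom.flat_algebraMap_iff.2 ‹_›) f f₁ g H G 0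
  letI := BCCoh.modHH f G 0
  letI := BCCoh.modHH f₁ ((Scheme.Modules.pullback g).obj G) 0
  exact ⟨(TensorProduct.AlgebraTensorModule.congr (LinearEquiv.refl B B) (h0Sec f G).symm).trans
    (eb.trans (h0Sec f₁ ((Scheme.Modules.pullback g).obj G)))⟩

variable {A : Type u} [CommRing A] [IsNoetherianRing A] (f : X ⟶ Spec (CommRingCat.of A)) [IsProper f]
  (c : Cocycle X)

theorem finite_sections {F : X.Modules} (hF : Coh.IsCoh F) (n : ℕ) :
    Module.Finite A (secA f (c.modTwist F n) ⊤) := by
  letI : X.Over (Spec (CommRingCat.of A)) := ⟨f⟩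
  haveI : IsProper (X ↘ Spec (CommRingCat.of A)) := ‹IsProper f›
  haveI := SerreVanish.isNoetherian_of_proper (X := X) A
  haveI := ProjCoh.moduleFinite_HH A _ (Euler.isCoh_modTwist c hF n) 0
  exact Module.Finite.equiv (h0Sec f (c.modTwist F n))

/-- **The fibre dimension of the sections of high twists is the Euler characteristic of the fibre.** -/
theorem exists_euler_eq_finrank (hc : c.IsAmp) {F : X.Modules} (hF : Coh.IsCoh F)
    (p : Spec (CommRingCat.of A)) :
    ∃ N₀ : ℕ, ∀ n, N₀ ≤ n → fibEuler f (c.modTwist F n) p =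
      (Module.finrank p.asIdeal.ResidueField
        (p.asIdeal.ResidueField ⊗[A] secA f (c.modTwist F n) ⊤) : ℤ) := by
  letI : X.Over (Spec (CommRingCat.of A)) := ⟨f⟩
  haveI : IsProper (X ↘ Spec (CommRingCat.of A)) := ‹IsProper f›
  haveI := SerreVanish.isNoetherian_of_proper (X := X) A
  haveI := SerreVanish.isSeparated_of_proper (X := X) A
  haveI := hF.1
  let R := Localization.AtPrime p.asIdeal
  let φ : A →+* R := algebraMap A R
  haveI : IsNoetherianRing R := IsLocalization.isNoetherianRing p.asIdeal.primeCompl _ inferInstance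
  let X₁ := Limits.pullback f (Spec.map (CommRingCat.ofHom φ))
  let g : X₁ ⟶ X := pullback.fst _ _
  let f₁ : X₁ ⟶ Spec (CommRingCat.of R) := pullback.snd _ _
  have H : IsPullback g f₁ f (Spec.map (CommRingCat.ofHom φ)) := IsPullback.of_hasPullback _ _
  haveI : IsProper f₁ := inferInstance
  haveI := BCCoh.isAffineHom_bc φ f f₁ g H
  let F₁ := (Scheme.Modules.pullback g).obj F
  have hF₁ : Coh.IsCoh F₁ := ModDesc.isCoh_pullback g F hF
  obtain ⟨N₀, hN₀⟩ := exists_euler_closed_eq f₁ (c.comap g) (isAmp_comap g hc) F₁ hF₁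
  refine ⟨N₀, fun n hn => ?_⟩
  let G := c.modTwist F n
  haveI := c.isQuasicoherent_modTwist F n
  obtain ⟨e⟩ := nonempty_pullback_modTwist g c F n
  have hpt : (Spec.map (CommRingCat.ofHom φ)) (IsLocalRing.closedPoint R) = p :=
    PrimeSpectrum.ext Localization.AtPrime.comap_maximalIdeal
  haveI : Module.Flat A R := IsLocalization.flat R p.asIdeal.primeCompl
  obtain ⟨eb⟩ := exists_sections_baseChange f f₁ g H G
  let es : R ⊗[A] secA f G ⊤ ≃ₗ[R] secA f₁ ((c.comap g).modTwist F₁ n) ⊤ := eb.trans (secIso f₁ e)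
  rw [← hpt, ← EulerConst10.fibEuler_baseChange H G (IsLocalRing.closedPoint R),
    EulerConst10.fibEuler_congr f₁ e, hN₀ n hn, hpt]
  congr 1
  rw [← (TensorProduct.AlgebraTensorModule.congr (LinearEquiv.refl (IsLocalRing.ResidueField R)
    (IsLocalRing.ResidueField R)) es).finrank_eq]
  exact (TensorProduct.AlgebraTensorModule.cancelBaseChange A R (IsLocalRing.ResidueField R)
    (IsLocalRing.ResidueField R) (secA f G ⊤)).finrank_eq

/-- **Free sections of high twists from equal Euler characteristics.** -/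
theorem exists_mem_freeLocus (hc : c.IsAmp) {F : X.Modules} (hF : Coh.IsCoh F) (p : Spec (CommRingCat.of A))
    [IsReduced (Localization.AtPrime p.asIdeal)]
    (h : ∀ q : Spec (CommRingCat.of A), q.asIdeal ≤ p.asIdeal → q.asIdeal ∈ minimalPrimes A →
      ∀ n, fibEuler f (c.modTwist F n) q = fibEuler f (c.modTwist F n) p) :
    ∃ N₀ : ℕ, ∀ n, N₀ ≤ n → p ∈ Module.freeLocus A (secA f (c.modTwist F n) ⊤) := by
  classical
  choose N hN using exists_euler_eq_finrank f c hc hF
  have hfin : (minimalPrimes A).Finite := minimalPrimes.finite_of_isNoetherianRing A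
  let pts : Finset (Spec (CommRingCat.of A)) :=
    (hfin.preimage (f := fun q : Spec (CommRingCat.of A) => q.asIdeal)
      (fun a _ b _ hab => PrimeSpectrum.ext hab)).toFinset
  refine ⟨max (N p) (pts.sup N), fun n hn => ?_⟩
  let M := secA f (c.modTwist F n) ⊤
  haveI := finite_sections f c hF n
  haveI : Module.FinitePresentation A M := Module.finitePresentation_of_finite A M
  let R := Localization.AtPrime p.asIdeal
  rw [Module.mem_freeLocus_iff_tensor p R]
  refine FlatCx.free_of_finrank_eq_minimal (R ⊗[A] M) fun q hq => ?_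
  have key : ∀ z : PrimeSpectrum R,
      Module.finrank z.asIdeal.ResidueField (z.asIdeal.ResidueField ⊗[R] (R ⊗[A] M)) =
        Module.finrank (PrimeSpectrum.comap (algebraMap A R) z).asIdeal.ResidueField
          ((PrimeSpectrum.comap (algebraMap A R) z).asIdeal.ResidueField ⊗[A] M) := fun z => by
    rw [(TensorProduct.AlgebraTensorModule.cancelBaseChange A R z.asIdeal.ResidueField z.asIdeal.ResidueField M).finrank_eq,
      BCCrit.finrank_tensor_field M (PrimeSpectrum.comap (algebraMap A R) z) z.asIdeal.ResidueField ?_]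
    rw [IsScalarTower.algebraMap_eq A R z.asIdeal.ResidueField, ← RingHom.comap_ker,
      Ideal.ker_algebraMap_residueField]
    rfl
  rw [key, key, show PrimeSpectrum.comap (algebraMap A R) (IsLocalRing.closedPoint R) = p from
    PrimeSpectrum.ext Localization.AtPrime.comap_maximalIdeal]
  let q₀ : Spec (CommRingCat.of A) := PrimeSpectrum.comap (algebraMap A R) q
  have hmin : q₀.asIdeal ∈ minimalPrimes A := by
    haveI := hq.1.1
    rw [minimalPrimes_eq_minimals] at hq ⊢
    refine ⟨q₀.isPrime, fun I hI hle => ?_⟩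
    haveI : I.IsPrime := hI
    have hd : Disjoint (p.asIdeal.primeCompl : Set A) (I : Set A) := by
      refine Set.disjoint_left.2 fun a ha haI => ha ?_
      rw [← Localization.AtPrime.comap_maximalIdeal (I := p.asIdeal)]
      exact IsLocalRing.le_maximalIdeal q.isPrime.ne_top (hle haI)
    have h1 := IsLocalization.isPrime_of_isPrime_disjoint p.asIdeal.primeCompl R I hI hd
    have h2 : I.map (algebraMap A R) ≤ q.asIdeal := Ideal.map_le_iff_le_comap.2 hle
    have h3 := hq.2 h1 h2
    intro a ha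
    rw [← IsLocalization.comap_map_of_isPrime_disjoint p.asIdeal.primeCompl R hI hd]
    exact h3 ha
  have hqp : q₀.asIdeal ≤ p.asIdeal := by
    rw [← Localization.AtPrime.comap_maximalIdeal (I := p.asIdeal)]
    exact Ideal.comap_mono (IsLocalRing.le_maximalIdeal q.isPrime.ne_top)
  have e1 := hN p n (le_trans (le_max_left _ _) hn)
  have hmem : q₀ ∈ pts := (Set.Finite.mem_toFinset _).2 hmin
  have e2 := hN q₀ n (le_trans ((Finset.le_sup (f := N) hmem).trans (le_max_right _ _)) hn)
  have e3 := h q₀ hqp hmin n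
  rw [e1, e2] at e3
  exact_mod_cast e3

/-- **Flatness over a point from equal Euler characteristics.** -/
theorem isFlatOverAt_of_euler_eq (hc : c.IsAmp) {F : X.Modules} (hF : Coh.IsCoh F) (p : Spec (CommRingCat.of A))
    [IsReduced (Localization.AtPrime p.asIdeal)]
    (h : ∀ q : Spec (CommRingCat.of A), q.asIdeal ≤ p.asIdeal → q.asIdeal ∈ minimalPrimes A →
      ∀ n, fibEuler f (c.modTwist F n) q = fibEuler f (c.modTwist F n) p)
    (x : X) (hx : f.base x = p) : FlatMod.IsFlatOverAt f F x := by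
  letI : X.Over (Spec (CommRingCat.of A)) := ⟨f⟩
  haveI : IsProper (X ↘ Spec (CommRingCat.of A)) := ‹IsProper f›
  haveI := SerreVanish.isNoetherian_of_proper (X := X) A
  haveI := hF.1
  obtain ⟨N₀, hN₀⟩ := exists_mem_freeLocus f c hc hF p h
  refine isFlatOverAt_of_flat_sections f c hc F p N₀ (fun n hn => ?_) x hx
  haveI : Module.Free (Localization.AtPrime p.asIdeal)
      (LocalizedModule p.asIdeal.primeCompl (secA f (c.modTwist F n) ⊤)) := hN₀ n hn
  haveI : Module.Flat (Localization.AtPrime p.asIdeal)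
      (LocalizedModule p.asIdeal.primeCompl (secA f (c.modTwist F n) ⊤)) := Module.Flat.of_free
  haveI : Module.Flat A (Localization.AtPrime p.asIdeal) :=
    IsLocalization.flat (Localization.AtPrime p.asIdeal) p.asIdeal.primeCompl
  exact Module.Flat.trans A (Localization.AtPrime p.asIdeal) _

end GrothLib.HilbFlat10
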