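import Groth.Agent.Lib.HilbFlat10.System
import Groth.Agent.Lib.SerreVanish.Ample
import Groth.Agent.Lib.BCCoh.BaseChange
import Groth.Agent.Lib.FlatFP.SheafFlat
import Groth.Agent.Lib.FlatFP.InjCokerSheaf
import Groth.Agent.Lib.HodgeIndex.Index
import Groth.Agent.Lib.Euler.CurveVanish
import Groth.Agent.Lib.AssPts.Points

/-!
# Flatness from the sections of the high twists
-/

set_option autoImplicit false
set_option linter.all false
set_option backward.isDefEq.respectTransparency false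
set_option maxHeartbeats 1000000

universe u

open CategoryTheory CategoryTheory.Limits AlgebraicGeometry Opposite TopologicalSpace
open GrothLib.Ample (Cocycle res)
open GrothLib.InvExt (mres)
open GrothLib.BCCoh (secA resA appA psiR)

noncomputable section

namespace GrothLib.HilbFlat10

variable {A : Type u} [CommRing A] {X : Scheme.{u}} (f : X ⟶ Spec (CommRingCat.of A)) (c : Cocycle X)

/-- Twisted sections agreeing on a locus agree after raising. -/
theorem exists_mraise_eq_top [CompactSpace X] (M : X.Modules) [M.IsQuasicoherent] {k n : ℕ}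
    (a : c.sect k ⊤) (b b' : c.msect M n ⊤)
    (h : c.msectRes (le_top : c.locus a ≤ ⊤) b = c.msectRes le_top b') :
    ∃ N₀, ∀ N, N₀ ≤ N → c.mraise a b N = c.mraise a b' N := by
  classical
  choose i W hpW hWD hW using c.exists_affine_le_D
  obtain ⟨t, ht⟩ := isCompact_univ.elim_finite_subcover (fun p => (W p : Set X)) (fun p => (W p).2)
    (fun p _ => Set.mem_iUnion.mpr ⟨p, hpW p⟩)
  have hp : ∀ p : X, ∃ N₀, ∀ N, N₀ ≤ N →
      c.mraise a (c.msectRes (le_top : W p ≤ ⊤) b) N = c.mraise a (c.msectRes (le_top : W p ≤ ⊤) b') N := by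
    intro p
    refine c.exists_mraise_eq a (hW p).isCompact (hWD p) _ _ ?_
    have e := congrArg (c.msectRes (inf_le_right : W p ⊓ c.locus a ≤ c.locus a)) h
    simp only [Cocycle.msectRes_msectRes] at e ⊢
    exact e
  choose N₀ hN₀ using hp
  refine ⟨t.sup N₀, fun N hN => ?_⟩
  refine Ample.meq_of_cover (c.modTwist M (n + k * N)) (fun p : t => W p.1) (fun _ => le_top)
    (fun x _ => by
      obtain ⟨p, hp, hx⟩ := Set.mem_iUnion₂.mp (ht (Set.mem_univ x))
      exact Opens.mem_iSup.mpr ⟨⟨p, hp⟩, hx⟩) fun p => ?_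
  show c.msectRes (le_top : W p.1 ≤ ⊤) (c.mraise a b N) = c.msectRes (le_top : W p.1 ≤ ⊤) (c.mraise a b' N)
  rw [c.msectRes_mraise, c.msectRes_mraise]
  exact hN₀ p.1 N ((Finset.le_sup p.2).trans hN)

/-- **Flatness from the sections of the high twists.** If the sections of the high twists of `F` are
flat at the prime `p`, then `F` is flat at every point over `p`. -/
theorem isFlatOverAt_of_flat_sections [CompactSpace X] [QuasiSeparatedSpace X] (hc : c.IsAmp)
    (F : X.Modules) [F.IsQuasicoherent] (p : PrimeSpectrum A) (N₁ : ℕ)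
    (h : ∀ n, N₁ ≤ n →
      Module.Flat A (LocalizedModule p.asIdeal.primeCompl (secA f (c.modTwist F n) ⊤)))
    (x : X) (hx : f.base x = p) : FlatMod.IsFlatOverAt f F x := by
  obtain ⟨k₀, a, hxa, ha⟩ := hc x
  let k := k₀ + 1
  let U := c.locus a
  let T := secA f (c.modTwist F 0) U
  let M : ℕ → ModuleCat.{u} A := fun N => secA f (c.modTwist F (0 + k * (N₁ + N))) ⊤
  let E : ∀ N, T ≃ₗ[A] secA f (c.modTwist F (0 + k * N)) U := fun N =>
    LinearEquiv.ofBijective (appA f (c.mraiseHom F a 0 N) U) (c.bijective_mraise a N (le_refl U))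
  let tr : ∀ {N N' : ℕ}, N ≤ N' → (c.modTwist F (0 + k * N) ⟶ c.modTwist F (0 + k * N')) :=
    fun {N N'} h => SerreVanish.trHom c F a 0 h
  have hE : ∀ {N N' : ℕ} (h : N ≤ N') (t : T), appA f (tr h) U (E N t) = E N' t := by
    intro N N' h t
    refine c.msect_ext fun i => ?_
    show res _ (a.1 i) ^ (N' - N) • res _ (a.1 i) ^ N • (show c.msect F 0 U from t).1 i =
      res _ (a.1 i) ^ N' • (show c.msect F 0 U from t).1 i
    rw [smul_smul, ← pow_add, Nat.sub_add_cancel h]
  have hnat : ∀ {G G' : X.Modules} (g : G ⟶ G') (z : secA f G ⊤),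
      resA f G' (le_top : U ≤ ⊤) (appA f g ⊤ z) = appA f g U (resA f G (le_top : U ≤ ⊤) z) :=
    fun g z => QCoh.map_app g (homOfLE (le_top : U ≤ ⊤)) z
  let σ : ∀ {N N' : ℕ}, N ≤ N' → M N →ₗ[A] M N' :=
    fun {N N'} h => appA f (tr (Nat.add_le_add_left h N₁)) ⊤
  let r : ∀ N, M N →ₗ[A] T := fun N =>
    (E (N₁ + N)).symm.toLinearMap ∘ₗ resA f (c.modTwist F (0 + k * (N₁ + N))) (le_top : U ≤ ⊤)
  have hflat : Module.Flat A (LocalizedModule p.asIdeal.primeCompl T) := by
    refine flat_localized_of_system p.asIdeal.primeCompl (M := fun N => M N) σ r ?_ ?_ ?_ ?_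
    · intro N N' h
      refine LinearMap.ext fun z => ?_
      show (E (N₁ + N')).symm (resA f _ le_top (appA f (tr (Nat.add_le_add_left h N₁)) ⊤ z)) =
        (E (N₁ + N)).symm (resA f _ le_top z)
      rw [hnat, LinearEquiv.symm_apply_eq, ← hE (Nat.add_le_add_left h N₁), LinearEquiv.apply_symm_apply]
    · intro t
      obtain ⟨m, b, hb⟩ := c.exists_mextend a (show c.msect F 0 (c.locus a) from t)
      refine ⟨m, fun N hN => ⟨appA f (tr (show m ≤ N₁ + N by omega)) ⊤ b, ?_⟩⟩
      show (E (N₁ + N)).symm (resA f _ le_top (appA f (tr _) ⊤ b)) = t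
      rw [hnat, LinearEquiv.symm_apply_eq, ← hE (show m ≤ N₁ + N by omega)]
      exact congrArg (appA f (tr (show m ≤ N₁ + N by omega)) U) hb
    · intro N z hz
      have hz' : resA f _ (le_top : U ≤ ⊤) z = 0 := (E (N₁ + N)).symm.map_eq_zero_iff.1 hz
      obtain ⟨N₀, hN₀⟩ := exists_mraise_eq_top c F a (show c.msect F (0 + k * (N₁ + N)) ⊤ from z) 0
        (hz'.trans (map_zero (c.msectRes (M := F) (n := 0 + k * (N₁ + N)) (le_top : U ≤ ⊤))).symm)
      refine ⟨N + N₀, Nat.le_add_right _ _, c.msect_ext fun i => ?_⟩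
      have e := congrArg (fun s : c.msect F (0 + k * (N₁ + N) + k * N₀) ⊤ => s.1 i) (hN₀ N₀ le_rfl)
      simp only [Cocycle.mraise_apply] at e
      show res _ (a.1 i) ^ (N₁ + (N + N₀) - (N₁ + N)) •
        (show c.msect F (0 + k * (N₁ + N)) ⊤ from z).1 i = 0
      rw [show N₁ + (N + N₀) - (N₁ + N) = N₀ by omega]
      exact e.trans (smul_zero _)
    · intro N
      refine h _ ?_
      have : 1 * (N₁ + N) ≤ k * (N₁ + N) := Nat.mul_le_mul_right _ (Nat.le_add_left 1 k₀)
      omega
  obtain ⟨c0⟩ : Nonempty (c.modTwist F 0 ≅ F) := by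
    obtain ⟨q0⟩ := c.nonempty_tensor_modTwist F 0
    obtain ⟨t0⟩ := c.nonempty_tensorPow_iso (Iso.refl (c.twist 1)) 0
    exact ⟨q0.symm ≪≫ (HodgeIndex.tensorLeftIso F t0).symm ≪≫ Euler.tFUnitIso F⟩
  refine (FlatFP.isFlatOverAt_congr f c0 x).1 ?_
  haveI := c.isQuasicoherent_modTwist F 0
  let V : (Spec (CommRingCat.of A)).Opens := ⊤
  let G := c.modTwist F 0
  let φ : A →+* Γ(X, U) := (f.appLE V U le_top).hom.comp (Scheme.ΓSpecIso (CommRingCat.of A)).inv.hom
  let e : CommRingCat.of A ≅ Γ(Spec (CommRingCat.of A), V) := (Scheme.ΓSpecIso (CommRingCat.of A)).symm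
  letI : Algebra A Γ(Spec (CommRingCat.of A), V) := e.hom.hom.toAlgebra
  letI : Algebra Γ(Spec (CommRingCat.of A), V) Γ(X, U) := (f.appLE V U le_top).hom.toAlgebra
  letI : Module Γ(Spec (CommRingCat.of A), V) Γ(G, U) := Module.compHom _ (f.appLE V U le_top).hom
  haveI : IsScalarTower Γ(Spec (CommRingCat.of A), V) Γ(X, U) Γ(G, U) :=
    IsScalarTower.of_algebraMap_smul fun _ _ => rfl
  rw [FlatFP.isFlatOverAt_iff f G (isAffineOpen_top _) ha (le_top : U ≤ f ⁻¹ᵁ V) hxa rfl]
  letI : Algebra A Γ(X, U) := φ.toAlgebra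
  letI : Module A Γ(G, U) := Module.compHom _ φ
  haveI : IsScalarTower A Γ(X, U) Γ(G, U) := IsScalarTower.of_algebraMap_smul fun _ _ => rfl
  haveI : IsScalarTower A Γ(Spec (CommRingCat.of A), V) Γ(X, U) := IsScalarTower.of_algebraMap_eq fun _ => rfl
  haveI : Module.Flat A (LocalizedModule p.asIdeal.primeCompl Γ(G, U)) := hflat
  have hprime : ∀ s ∈ p.asIdeal.primeCompl, algebraMap A Γ(X, U) s ∈ (WeakAss.primeAt x hxa).primeCompl := by
    intro s hs
    show φ s ∉ WeakAss.primeAt x hxa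
    show e.hom s ∉ (WeakAss.primeAt x hxa).comap (f.appLE V U le_top).hom
    rw [AssPts.comap_primeAt, WeakAss.notMem_primeAt_iff]
    show f.base x ∈ (Spec (CommRingCat.of A)).basicOpen ((Scheme.ΓSpecIso (CommRingCat.of A)).inv s)
    rw [basicOpen_eq_of_affine, hx]
    exact hs
  haveI := flat_localizedModule_of (M := Γ(G, U)) p.asIdeal.primeCompl
    (WeakAss.primeAt x hxa).primeCompl hprime
  exact flat_of_bijective (A := A) (B := Γ(Spec (CommRingCat.of A), V))
    (ConcreteCategory.bijective_of_isIso e.hom) _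

end GrothLib.HilbFlat10
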