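import Groth.Agent.Lib.HilbFlat10.Main
import Groth.Agent.Lib.EulerConst10.BaseChange
import Groth.Agent.Lib.AmpleDesc.Rel
import Groth.Agent.Lib.BCCoh.RpushAffine
import Groth.Agent.Lib.FlatDesc.Basic
import Groth.Agent.Lib.FunMor20.CohInd
import Groth.Agent.Lib.FunFlat6.Point

/-!
# Flatness criteria by Hilbert polynomials of the fibres
-/

set_option autoImplicit false
set_option linter.all false
set_option backward.isDefEq.respectTransparency false
set_option maxHeartbeats 1000000

universe u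

open CategoryTheory CategoryTheory.Limits AlgebraicGeometry Opposite TopologicalSpace
open GrothLib.EulerConst10 (fibEuler)

noncomputable section

namespace GrothLib.HilbFlat10

variable {A : Type u} [CommRing A] [IsNoetherianRing A] {X : Scheme.{u}}
  (f : X ⟶ Spec (CommRingCat.of A)) [IsProper f] {L : X.Modules}

theorem nonempty_modTwist_iso (c : Ample.Cocycle X) (e : L ≅ c.twist 1) (F : X.Modules) (n : ℕ) :
    Nonempty (c.modTwist F n ≅ CohB1.tensorMod F (CohB1.tensorPow L n)) := by
  obtain ⟨d⟩ := c.nonempty_tensorPow_iso e n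
  obtain ⟨q⟩ := c.nonempty_tensor_modTwist F n
  exact ⟨q.symm ≪≫ (((DCoh.tensorBi (X := X)).obj F).mapIso d).symm⟩

/-- Flatness over a point from the Hilbert polynomials of its generisations. -/
theorem isFlatOverAt_of_hilb_eq (hL : CohB1.IsAmple L) {F : X.Modules} (hF : Coh.IsCoh F)
    (p : Spec (CommRingCat.of A)) [IsReduced (Localization.AtPrime p.asIdeal)]
    (h : ∀ q : Spec (CommRingCat.of A), q.asIdeal ≤ p.asIdeal → q.asIdeal ∈ minimalPrimes A →
      ∀ n, fibEuler f (CohB1.tensorMod F (CohB1.tensorPow L n)) q =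
        fibEuler f (CohB1.tensorMod F (CohB1.tensorPow L n)) p)
    (x : X) (hx : f.base x = p) : FlatMod.IsFlatOverAt f F x := by
  obtain ⟨c, ⟨e⟩⟩ := Ample.exists_cocycle hL.1
  refine isFlatOverAt_of_euler_eq f c ((c.isAmple_iff e).1 hL).2 hF p (fun q hq hm n => ?_) x hx
  obtain ⟨i⟩ := nonempty_modTwist_iso c e F n
  rw [EulerConst10.fibEuler_congr f i, EulerConst10.fibEuler_congr f i]
  exact h q hq hm n

/-- Over a Noetherian local domain, equal Hilbert polynomials at the two ends give flatness. -/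
theorem isFlatOver_of_generic_eq_closed [IsDomain A] [IsLocalRing A] (hL : CohB1.IsAmple L)
    {F : X.Modules} (hF : Coh.IsCoh F)
    (h : ∀ n, fibEuler f (CohB1.tensorMod F (CohB1.tensorPow L n)) (⊥ : PrimeSpectrum A) =
      fibEuler f (CohB1.tensorMod F (CohB1.tensorPow L n)) (IsLocalRing.closedPoint A)) :
    FlatMod.IsFlatOver f F := by
  letI : X.Over (Spec (CommRingCat.of A)) := ⟨f⟩
  haveI : IsProper (X ↘ Spec (CommRingCat.of A)) := ‹IsProper f›
  haveI := SerreVanish.isNoetherian_of_proper (X := X) A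
  haveI := hF.1
  obtain ⟨c, ⟨e⟩⟩ := Ample.exists_cocycle hL.1
  have hc := ((c.isAmple_iff e).1 hL).2
  let m : Spec (CommRingCat.of A) := IsLocalRing.closedPoint A
  haveI : IsReduced (Localization.AtPrime m.asIdeal) := inferInstance
  obtain ⟨N₀, hN₀⟩ := exists_mem_freeLocus f c hc hF m (fun q _ hq n => by
    have hq0 : q = (⊥ : PrimeSpectrum A) := PrimeSpectrum.ext (by
      rw [IsDomain.minimalPrimes_eq_singleton_bot] at hq
      exact hq)
    obtain ⟨i⟩ := nonempty_modTwist_iso c e F n
    rw [EulerConst10.fibEuler_congr f i, EulerConst10.fibEuler_congr f i, hq0]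
    exact h n)
  intro x
  refine isFlatOverAt_of_flat_sections f c hc F (f.base x) N₀ (fun n hn => ?_) x rfl
  let M := BCCoh.secA f (c.modTwist F n) ⊤
  haveI := finite_sections f c hF n
  haveI : Module.FinitePresentation A M := Module.finitePresentation_of_finite A M
  have hp : f.base x ∈ Module.freeLocus A M := by
    have h1 : (⟨Module.freeLocus A M, Module.isOpen_freeLocus⟩ : TopologicalSpace.Opens (PrimeSpectrum A)) = ⊤ :=
      (IsLocalRing.closedPoint_mem_iff _).1 (hN₀ n hn)
    exact (SetLike.ext_iff.1 h1 _).2 trivial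
  haveI : Module.Free (Localization.AtPrime (f.base x).asIdeal) (LocalizedModule (f.base x).asIdeal.primeCompl M) := hp
  haveI : Module.Flat (Localization.AtPrime (f.base x).asIdeal)
      (LocalizedModule (f.base x).asIdeal.primeCompl M) := Module.Flat.of_free
  haveI : Module.Flat A (Localization.AtPrime (f.base x).asIdeal) :=
    IsLocalization.flat (Localization.AtPrime (f.base x).asIdeal) (f.base x).asIdeal.primeCompl
  exact Module.Flat.trans A (Localization.AtPrime (f.base x).asIdeal) _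

omit [IsProper f] in
/-- Locally constant Hilbert polynomials over a reduced base give flatness. -/
theorem isFlatOver_of_locallyConstant {S : Scheme.{u}} [IsLocallyNoetherian S] [IsReduced S]
    {X : Scheme.{u}} (g : X ⟶ S) [IsProper g] {L : X.Modules} (hL : RelAmple.IsRelAmple g L)
    {F : X.Modules} (hF : Coh.IsCoh F)
    (h : ∀ s : S, ∃ U : S.Opens, s ∈ U ∧ ∀ s' : S, s' ∈ U → ∀ n : ℕ,
      fibEuler g (CohB1.tensorMod F (CohB1.tensorPow L n)) s' =
        fibEuler g (CohB1.tensorMod F (CohB1.tensorPow L n)) s) :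
    FlatMod.IsFlatOver g F := by
  intro x
  obtain ⟨U, hsU, hU⟩ := h (g.base x)
  obtain ⟨V, hV, hxV, hVU⟩ := exists_isAffineOpen_mem_and_subset hsU
  haveI : IsNoetherianRing Γ(S, V) := IsLocallyNoetherian.component_noetherian ⟨V, hV⟩
  let j := (g ⁻¹ᵁ V).ι
  let g₁ := BCCoh.affBase g hV
  haveI : IsProper (g ∣_ V) := IsZariskiLocalAtTarget.restrict ‹IsProper g› V
  haveI : IsProper g₁ := inferInstance
  have hsq : IsPullback j g₁ g hV.fromSpec := by
    refine (isPullback_morphismRestrict g V).flip.of_iso (Iso.refl _) (Iso.refl _) hV.isoSpec (Iso.refl _) ?_ ?_ ?_ ?_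
    · simp [j]
    · simp [g₁]
    · simp
    · rw [Iso.refl_hom, Category.comp_id, IsAffineOpen.isoSpec_hom_fromSpec]
  have hcomm : g₁ ≫ hV.fromSpec = j ≫ g := hsq.w.symm
  let F₁ := (Scheme.Modules.pullback j).obj F
  let L₁ := (Scheme.Modules.pullback j).obj L
  have hF₁ : Coh.IsCoh F₁ := ModDesc.isCoh_pullback j F hF
  have hL₁ : CohB1.IsAmple L₁ :=
    (Ample.isAmple_iff_of_iso ((Scheme.Modules.restrictFunctorIsoPullback j).app L)).1 (hL.2 ⟨V, hV⟩)
  let z : ((g ⁻¹ᵁ V : X.Opens) : Scheme.{u}) := ⟨x, hxV⟩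
  let p : Spec (CommRingCat.of Γ(S, V)) := g₁.base z
  haveI : _root_.IsReduced Γ(S, V) := inferInstance
  haveI : _root_.IsReduced (Localization.AtPrime p.asIdeal) := inferInstance
  have hjz : j z = x := rfl
  have hp : hV.fromSpec p = g x := by
    show (g₁ ≫ hV.fromSpec) z = g x
    rw [hcomm]
    rfl
  have hfp : CohB1.IsFP F :=
    haveI := hF.1
    haveI : IsLocallyNoetherian X := LocallyOfFiniteType.isLocallyNoetherian g
    QCoh.isFinitePresentation_of_isFiniteType F hF.2
  have hχ : ∀ (q : Spec (CommRingCat.of Γ(S, V))) (n : ℕ),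
      fibEuler g₁ (CohB1.tensorMod F₁ (CohB1.tensorPow L₁ n)) q =
        fibEuler g (CohB1.tensorMod F (CohB1.tensorPow L n)) (hV.fromSpec q) := fun q n =>
    EulerConst10.fibEuler_tensorPows_baseChange hsq hfp (fun _ : Fin 1 => L)
      (fun _ => Ample.isInvertible_of_isRelAmple hL) (fun _ => n) q
  have hflat : FlatMod.IsFlatOverAt g₁ F₁ z := by
    refine isFlatOverAt_of_hilb_eq g₁ hL₁ hF₁ p (fun q hq _ n => ?_) z rfl
    rw [hχ, hχ, hp]
    refine hU _ ?_ n
    exact hVU (by
      have : hV.fromSpec q ∈ Set.range hV.fromSpec := ⟨q, rfl⟩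
      rwa [hV.range_fromSpec] at this)
  have h2 := FlatDesc.isFlatOverAt_comp g₁ hV.fromSpec F₁ z hflat
  have h3 := (FunFlat6.isFlatOverAt_congr_map hcomm F₁ z).1 h2
  exact hjz ▸ (FlatDesc.isFlatOverAt_comp_pullback_iff j g F z).1 h3

end GrothLib.HilbFlat10
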