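import Groth.Agent.Lib.HilbFlat10.Sections
import Groth.Agent.Lib.EulerConst10.BaseChange
import Groth.Agent.Lib.Euler.SectionKill
import Groth.Agent.Lib.Euler.Scalar
import Groth.Agent.Lib.Ample.RelAmple
import Mathlib.LinearAlgebra.TensorProduct.Quotient

/-!
# The sections of the high twists on a closed fibre
-/

set_option autoImplicit false
set_option linter.all false
set_option backward.isDefEq.respectTransparency false
set_option maxHeartbeats 1000000

universe u

open CategoryTheory CategoryTheory.Limits AlgebraicGeometry Opposite TopologicalSpace TensorProduct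
open GrothLib.Ample (Cocycle res)
open GrothLib.InvExt (mres)
open GrothLib.BCCoh (secA resA appA psiR psiS)

noncomputable section

namespace GrothLib.HilbFlat10

/-- A base change along a surjection is surjective with kernel `I • ⊤`. -/
theorem isBaseChange_surjective {A B M N : Type u} [CommRing A] [CommRing B] [Algebra A B]
    [AddCommGroup M] [Module A M] [AddCommGroup N] [Module A N] [Module B N] [IsScalarTower A B N]
    (hB : Function.Surjective (algebraMap A B)) {l : M →ₗ[A] N} (h : IsBaseChange B l) :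
    Function.Surjective l ∧
      ∀ m, l m = 0 → m ∈ RingHom.ker (algebraMap A B) • (⊤ : Submodule A M) := by
  refine ⟨fun y => ?_, fun m hm => ?_⟩
  · obtain ⟨m, hm⟩ := TensorProduct.mk_surjective A M B hB (h.equiv.symm y)
    refine ⟨m, ?_⟩
    rw [← one_smul B (l m), ← h.equiv_tmul, show (1 : B) ⊗ₜ[A] m = h.equiv.symm y from hm,
      LinearEquiv.apply_symm_apply]
  · have h1 : (1 : B) ⊗ₜ[A] m = 0 := h.equiv.injective (by rw [h.equiv_tmul, one_smul, hm, map_zero])
    let I := RingHom.ker (algebraMap A B)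
    let e : B ≃ₗ[A] A ⧸ I :=
      ((Submodule.quotEquivOfEq I (LinearMap.ker (Algebra.linearMap A B)) rfl).trans
        ((Algebra.linearMap A B).quotKerEquivOfSurjective hB)).symm
    have he : e 1 = 1 := by
      rw [LinearEquiv.symm_apply_eq]
      show (1 : B) = algebraMap A B 1
      rw [map_one]
    have h2 := congrArg (fun z => TensorProduct.quotTensorEquivQuotSMul M I (e.toLinearMap.rTensor M z)) h1
    simp only [LinearMap.rTensor_tmul, LinearEquiv.coe_coe, he, map_zero] at h2
    rw [TensorProduct.quotTensorEquivQuotSMul_mk_one_tmul] at h2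
    exact (Submodule.Quotient.mk_eq_zero _).1 h2

/-- A surjection with kernel `I • ⊤` is a base change along the surjection. -/
theorem isBaseChange_of_surjective {A B M N : Type u} [CommRing A] [CommRing B] [Algebra A B]
    [AddCommGroup M] [Module A M] [AddCommGroup N] [Module A N] [Module B N] [IsScalarTower A B N]
    (hB : Function.Surjective (algebraMap A B)) {l : M →ₗ[A] N} (hs : Function.Surjective l)
    (hk : ∀ m, l m = 0 → m ∈ RingHom.ker (algebraMap A B) • (⊤ : Submodule A M)) : IsBaseChange B l := by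
  let θ := l.liftBaseChange B
  suffices hθ : Function.Bijective θ from
    IsBaseChange.of_equiv (LinearEquiv.ofBijective θ hθ) fun s => by simp [θ]
  refine ⟨(injective_iff_map_eq_zero θ).2 fun z hz => ?_, fun y => ?_⟩
  · obtain ⟨m, rfl⟩ := TensorProduct.mk_surjective A M B hB z
    have hlm : l m = 0 := by simpa [θ] using hz
    show (1 : B) ⊗ₜ[A] m = 0
    refine Submodule.smul_induction_on (hk m hlm) (fun r hr m _ => ?_) (fun x y hx hy => ?_)
    · rw [← smul_tmul, Algebra.smul_def, mul_one, show algebraMap A B r = 0 from hr, zero_tmul]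
    · rw [tmul_add, hx, hy, add_zero]
  · obtain ⟨m, rfl⟩ := hs y
    exact ⟨1 ⊗ₜ[A] m, by simp [θ]⟩

variable {A : Type u} [CommRing A] {X : Scheme.{u}} (f : X ⟶ Spec (CommRingCat.of A)) (c : Cocycle X)

/-- Affine opens and the whole scheme. -/
def Good (V : X.Opens) : Prop := IsAffineOpen V ∨ V = ⊤

theorem appA_scalar (M : X.Modules) (a : A) (n : ℕ) (V : X.Opens) (z : secA f (c.modTwist M n) V) :
    appA f (c.mtwistMap (Euler.smulMod M (Coh.toGlobal f a)) n) V z = a • z := by
  refine c.msect_ext fun i => ?_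
  show (Euler.smulMod M (Coh.toGlobal f a)).app (V ⊓ c.D i) ((show c.msect M n V from z).1 i) =
    res (inf_le_left : V ⊓ c.D i ≤ V) (psiR f V a) • (show c.msect M n V from z).1 i
  rw [Euler.smulMod_app]
  exact congrArg (fun r => r • (show c.msect M n V from z).1 i) (Ample.res_res _ _ _).symm

theorem surjective_app_of_vanish {S : ShortComplex X.Modules} (hS : S.ShortExact) [S.X₁.IsQuasicoherent]
    (h : Subsingleton (Coh.HH X S.X₁ 1)) {V : X.Opens} (hV : Good V) :
    Function.Surjective (S.g.app V) := by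
  rcases hV with hV | rfl
  · exact QCoh.app_surjective_of_isAffineOpen hS hV
  · exact QCoh.app_surjective_of_subsingleton hS ⊤
      ((Cohom.HEquivTop (Coh.toAb S.X₁) 1).symm.toEquiv.subsingleton)

/-- Twists of a quotient by finitely many scalars. -/
theorem exists_killed_quotient [IsNoetherianRing A] [IsProper f] (hc : c.IsAmp) (F : X.Modules)
    (hF : Coh.IsCoh F) (t : List A) :
    ∃ (Q : X.Modules) (_ : Coh.IsCoh Q) (p : F ⟶ Q) (N₀ : ℕ), ∀ n, N₀ ≤ n → ∀ V, Good (X := X) V →
      Function.Surjective (appA f (c.mtwistMap p n) V) ∧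
      ∀ z, appA f (c.mtwistMap p n) V z = 0 ↔
        z ∈ Ideal.span {a | a ∈ t} • (⊤ : Submodule A (secA f (c.modTwist F n) V)) := by
  letI : X.Over (Spec (CommRingCat.of A)) := ⟨f⟩
  haveI : IsProper (X ↘ Spec (CommRingCat.of A)) := ‹IsProper f›
  haveI := SerreVanish.isNoetherian_of_proper (X := X) A
  induction t with
  | nil =>
    refine ⟨F, hF, 𝟙 F, 0, fun n _ V _ => ?_⟩
    have hid : ∀ z, appA f (c.mtwistMap (𝟙 F) n) V z = z := fun z => c.msect_ext fun i => rfl
    refine ⟨fun y => ⟨y, hid y⟩, fun z => ?_⟩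
    rw [hid z, show {a : A | a ∈ ([] : List A)} = ∅ from by ext; simp, Ideal.span_empty, Submodule.bot_smul,
      Submodule.mem_bot]
  | cons a t ih =>
    obtain ⟨Q, hQ, p, N₀, hN⟩ := ih
    let ν : Q ⟶ Q := Euler.smulMod Q (Coh.toGlobal f a)
    have hK : Coh.IsCoh (kernel ν) := QCoh.isCoh_kernel ν hQ hQ
    have hC : Coh.IsCoh (cokernel ν) := QCoh.isCoh_cokernel ν hQ hQ
    have hI : Coh.IsCoh (Abelian.image ν) := QCoh.isCoh_kernel _ hQ hC
    obtain ⟨nK, hnK⟩ := SerreVanish.evAcyclic c A hc hK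
    obtain ⟨nI, hnI⟩ := SerreVanish.evAcyclic c A hc hI
    refine ⟨cokernel ν, hC, p ≫ cokernel.π ν, max N₀ (max nK nI), fun n hn V hV => ?_⟩
    haveI := hK.1
    haveI := hI.1
    haveI := c.isQuasicoherent_modTwist (kernel ν) n
    haveI := c.isQuasicoherent_modTwist (Abelian.image ν) n
    obtain ⟨hps, hpk⟩ := hN n (le_trans (le_max_left _ _) hn) V hV
    have hg : Function.Surjective (appA f (c.mtwistMap (cokernel.π ν) n) V) :=
      surjective_app_of_vanish (SerreVanish.twistSeq_shortExact c n (Euler.imageSeq_shortExact ν))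
        (hnI n (le_trans (le_trans (le_max_right _ _) (le_max_right _ _)) hn) 1 le_rfl) hV
    have hfac : Function.Surjective (appA f (c.mtwistMap (Abelian.factorThruImage ν) n) V) :=
      surjective_app_of_vanish (SerreVanish.twistSeq_shortExact c n (Euler.kernelSeq_shortExact ν))
        (hnK n (le_trans (le_trans (le_max_left _ _) (le_max_right _ _)) hn) 1 le_rfl) hV
    have hgk : ∀ y, appA f (c.mtwistMap (cokernel.π ν) n) V y = 0 ↔ ∃ x, a • x = y := by
      intro y
      constructor
      · intro hy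
        obtain ⟨w, hw⟩ := QCoh.app_exact (SerreVanish.twistSeq_shortExact c n (Euler.imageSeq_shortExact ν)) V y hy
        obtain ⟨x, rfl⟩ := hfac w
        refine ⟨x, ?_⟩
        rw [← appA_scalar, ← hw]
        show appA f (c.mtwistMap ν n) V x =
          appA f (c.mtwistMap (Abelian.image.ι ν) n) V (appA f (c.mtwistMap (Abelian.factorThruImage ν) n) V x)
        conv_lhs => rw [← Abelian.image.fac ν, SerreVanish.mtwistMap_comp]
        rfl
      · rintro ⟨x, rfl⟩
        rw [← appA_scalar]
        show appA f (c.mtwistMap ν n ≫ c.mtwistMap (cokernel.π ν) n) V x = 0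
        rw [← SerreVanish.mtwistMap_comp, cokernel.condition, SerreVanish.mtwistMap_zero]
        rfl
    have hcomp : ∀ z, appA f (c.mtwistMap (p ≫ cokernel.π ν) n) V z =
        appA f (c.mtwistMap (cokernel.π ν) n) V (appA f (c.mtwistMap p n) V z) := fun z => by
      rw [SerreVanish.mtwistMap_comp]; rfl
    refine ⟨fun y => ?_, fun z => ?_⟩
    · obtain ⟨y', rfl⟩ := hg y
      obtain ⟨z, rfl⟩ := hps y'
      exact ⟨z, hcomp z⟩
    · rw [hcomp, hgk, show {b : A | b ∈ a :: t} = insert a {b | b ∈ t} from by ext; simp,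
        Ideal.span_insert, Submodule.sup_smul, Submodule.mem_sup]
      constructor
      · rintro ⟨x, hx⟩
        obtain ⟨x', rfl⟩ := hps x
        refine ⟨a • x', ?_, z - a • x', (hpk _).1 ?_, add_sub_cancel _ _⟩
        · exact Submodule.smul_mem_smul (Ideal.mem_span_singleton_self a) trivial
        · rw [map_sub, map_smul, hx, sub_self]
      · rintro ⟨y₁, h₁, y₂, h₂, rfl⟩
        rw [Submodule.ideal_span_singleton_smul, Submodule.mem_smul_pointwise_iff_exists] at h₁
        obtain ⟨x', -, rfl⟩ := h₁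
        exact ⟨appA f (c.mtwistMap p n) V x', by rw [map_add, map_smul, (hpk y₂).2 h₂, add_zero]⟩

/-- The Euler characteristic over a field mapping to the base. -/
theorem euler_pullback_field {S X' : Scheme.{u}} {h : X ⟶ S} [IsProper h] {K : Type u} [Field K]
    (g : Spec (CommRingCat.of K) ⟶ S) (g' : X' ⟶ X) (f' : X' ⟶ Spec (CommRingCat.of K))
    (hc' : IsPullback g' f' h g) (G : X.Modules) [G.IsQuasicoherent] (z : Spec (CommRingCat.of K)) :
    @Curv2.euler K _ X' ⟨f'⟩ ((Scheme.Modules.pullback g').obj G) = EulerConst10.fibEuler h G (g z) := by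
  haveI : IsProper f' := MorphismProperty.of_isPullback (P := @IsProper) hc' ‹IsProper h›
  haveI := FittSheaf.isQuasicoherent_pullback g' G
  let T : Scheme.{u} := Spec (CommRingCat.of K)
  let φ : CommRingCat.of K ⟶ T.residueField z := Spec.preimage (T.fromSpecResidueField z)
  have hφ : Spec.map φ = T.fromSpecResidueField z := Spec.map_preimage _
  have H : IsPullback (f'.fiberι z) (f'.fiberToSpecResidueField z) f' (Spec.map (CommRingCat.ofHom φ.hom)) := by
    have h0 : IsPullback (f'.fiberι z) (f'.fiberToSpecResidueField z) f' (T.fromSpecResidueField z) :=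
      IsPullback.of_hasPullback _ _
    rwa [← hφ] at h0
  rw [← EulerConst10.euler_isPullback φ.hom f' (f'.fiberToSpecResidueField z) (f'.fiberι z) H]
  exact EulerConst10.fibEuler_baseChange hc' G z

/-- **On the closed fibre, the sections of high twists are `M_n ⊗ κ` and give the Euler characteristic.** -/
theorem exists_euler_closed_eq [IsLocalRing A] [IsNoetherianRing A] [IsProper f] (hc : c.IsAmp)
    (F : X.Modules) (hF : Coh.IsCoh F) :
    ∃ N₀ : ℕ, ∀ n, N₀ ≤ n →
      EulerConst10.fibEuler f (c.modTwist F n) (IsLocalRing.closedPoint A) =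
        (Module.finrank (IsLocalRing.ResidueField A)
          (IsLocalRing.ResidueField A ⊗[A] secA f (c.modTwist F n) ⊤) : ℤ) := by
  letI : X.Over (Spec (CommRingCat.of A)) := ⟨f⟩
  haveI : IsProper (X ↘ Spec (CommRingCat.of A)) := ‹IsProper f›
  haveI := SerreVanish.isNoetherian_of_proper (X := X) A
  haveI := SerreVanish.isSeparated_of_proper (X := X) A
  haveI := hF.1
  let k := IsLocalRing.ResidueField A
  let φ : A →+* k := IsLocalRing.residue A
  have hφ : Function.Surjective (algebraMap A k) := IsLocalRing.residue_surjective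
  let X' := Limits.pullback f (Spec.map (CommRingCat.ofHom φ))
  let g : X' ⟶ X := pullback.fst _ _
  let f' : X' ⟶ Spec (CommRingCat.of k) := pullback.snd _ _
  have H : IsPullback g f' f (Spec.map (CommRingCat.ofHom φ)) := IsPullback.of_hasPullback _ _
  haveI : IsProper f' := inferInstance
  haveI := BCCoh.isAffineHom_bc φ f f' g H
  letI : X'.Over (Spec (CommRingCat.of k)) := ⟨f'⟩
  haveI : IsProper (X' ↘ Spec (CommRingCat.of k)) := ‹IsProper f'›
  obtain ⟨t, ht⟩ := IsNoetherian.noetherian (IsLocalRing.maximalIdeal A)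
  obtain ⟨Q, hQ, p, N₀, hN⟩ := exists_killed_quotient f c hc F hF t.toList
  have hspan : Ideal.span {a | a ∈ t.toList} = RingHom.ker φ := by
    rw [IsLocalRing.ker_residue, ← ht]
    congr 1
    ext; simp
  let L := c.twist 1
  let L' := (Scheme.Modules.pullback g).obj L
  have hL : PicF.IsInvertible L := c.isInvertible_twist 1
  have hL' : CohB1.IsAmple L' :=
    Ample.isAmple_pullback_of_isAffineHom g ((c.isAmple_iff (Iso.refl L)).2 ⟨inferInstance, hc⟩)
  let F' := (Scheme.Modules.pullback g).obj F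
  have hF' : Coh.IsCoh F' := ModDesc.isCoh_pullback g F hF
  obtain ⟨N₁, hN₁⟩ := SerreVanish.exists_forall_subsingleton k hL' hF'
  refine ⟨max N₀ N₁, fun n hn => ?_⟩
  haveI := c.isQuasicoherent_modTwist F n
  let G := c.modTwist F n
  let G' := (Scheme.Modules.pullback g).obj G
  let P := c.modTwist Q n
  let π : G ⟶ P := c.mtwistMap p n
  have hGood := hN n (le_trans (le_max_left _ _) hn)
  -- the pullback of sections
  letI : Algebra A k := φ.toAlgebra
  let ℓ : ∀ (V : X.Opens) (V' : X'.Opens) (e : V' ≤ g ⁻¹ᵁ V), secA f G V →+ secA f' G' V' := fun V V' e =>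
    AddMonoidHom.mk' (fun s => BCCoh.pullRes g G V V' e s) (BCCoh.pullRes_add g G V V' e)
  have hℓ : ∀ (V : X.Opens) (V' : X'.Opens) e (a : A) (s : secA f G V), ℓ V V' e (a • s) = φ a • ℓ V V' e s :=
    fun V V' e a s => ((BCCoh.bcHom φ f f' g H G V V' e).hom.map_smul a s)
  have hres : ∀ {V W : X.Opens} (h : W ≤ V) {V' W' : X'.Opens} (e : V' ≤ g ⁻¹ᵁ V) (e' : W' ≤ g ⁻¹ᵁ W)
      (h' : W' ≤ V') (s : secA f G V),
      resA f' G' h' (ℓ V V' e s) = ℓ W W' e' (resA f G h s) :=
    fun {V W} h {V' W'} e e' h' s => BCCoh.pullRes_res g G h e e' h' s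
  have haffine : ∀ {V : X.Opens} (hV : IsAffineOpen V), Function.Surjective (ℓ V (g ⁻¹ᵁ V) le_rfl) ∧
      ∀ s, ℓ V (g ⁻¹ᵁ V) le_rfl s = 0 ↔ appA f π V s = 0 := by
    intro V hV
    letI : Module A (secA f' G' (g ⁻¹ᵁ V)) := Module.compHom _ φ
    haveI : IsScalarTower A k (secA f' G' (g ⁻¹ᵁ V)) := IsScalarTower.of_algebraMap_smul fun _ _ => rfl
    obtain ⟨h1, h2⟩ := isBaseChange_surjective hφ (BCCoh.isBC_bcHom φ f f' g H G hV rfl)
    refine ⟨h1, fun s => ?_⟩
    rw [(hGood V (Or.inl hV)).2 s, hspan]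
    refine ⟨h2 s, fun hs => Submodule.smul_induction_on hs (fun r hr m _ => ?_) fun x y hx hy => ?_⟩
    · rw [hℓ, RingHom.mem_ker.1 hr, zero_smul]
    · rw [map_add, hx, hy, add_zero]
  -- the global sections
  let Λ := ℓ ⊤ ⊤ le_top
  obtain ⟨hπs, hπk⟩ := hGood ⊤ (Or.inr rfl)
  choose j W hpW hWD hW using c.exists_affine_le_D
  have hcov : (⊤ : X.Opens) ≤ ⨆ q, W q := fun x _ => Opens.mem_iSup.mpr ⟨x, hpW x⟩
  have hker : ∀ s, Λ s = 0 → s ∈ RingHom.ker φ • (⊤ : Submodule A (secA f G ⊤)) := by
    intro s hs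
    rw [← hspan, ← hπk]
    refine Ample.meq_of_cover P W (fun _ => le_top) hcov fun q => ?_
    refine (QCoh.map_app π (homOfLE (le_top : W q ≤ ⊤)) s).trans (Eq.trans ?_ (map_zero _).symm)
    refine (((haffine (hW q)).2 (resA f G (le_top : W q ≤ ⊤) s)).1 ?_)
    rw [← hres (le_top : W q ≤ ⊤) (V' := ⊤) le_top le_rfl le_top, hs, map_zero]
  have hsurj : Function.Surjective Λ := by
    intro v
    choose s hs using fun q => (haffine (hW q)).1 (resA f' G' (le_top : g ⁻¹ᵁ W q ≤ ⊤) v)
    obtain ⟨w, hw, -⟩ := TopCat.Sheaf.existsUnique_gluing' ⟨P.presheaf, P.isSheaf⟩ W ⊤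
      (fun q => homOfLE le_top) hcov (fun q => appA f π (W q) (s q)) fun q q' => by
        show resA f P inf_le_left (appA f π (W q) (s q)) = resA f P inf_le_right (appA f π (W q') (s q'))
        have nat : ∀ {V V₂ : X.Opens} (h : V₂ ≤ V) (z : secA f G V),
            resA f P h (appA f π V z) = appA f π V₂ (resA f G h z) :=
          fun h z => QCoh.map_app π (homOfLE h) z
        have haff : IsAffineOpen (W q ⊓ W q') := (hW q).inf (hW q')
        rw [nat, nat, ← sub_eq_zero, ← map_sub]
        refine ((haffine haff).2 _).1 ?_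
        rw [map_sub, sub_eq_zero, ← hres (inf_le_left : W q ⊓ W q' ≤ W q) le_rfl le_rfl (g.preimage_mono inf_le_left),
          ← hres (inf_le_right : W q ⊓ W q' ≤ W q') le_rfl le_rfl (g.preimage_mono inf_le_right), hs q, hs q']
        exact (InvExt.mres_mres G' _ _ _).trans (InvExt.mres_mres G' _ _ _).symm
    obtain ⟨z, hz⟩ := hπs w
    refine ⟨z, ?_⟩
    refine Ample.meq_of_cover G' (fun q => g ⁻¹ᵁ W q) (fun _ => le_top) (fun x _ => ?_) fun q => ?_
    · exact Opens.mem_iSup.mpr ⟨g.base x, hpW _⟩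
    show resA f' G' le_top (Λ z) = resA f' G' le_top v
    rw [hres (le_top : W q ≤ ⊤) le_top le_rfl le_top, ← hs q, ← sub_eq_zero, ← map_sub, (haffine (hW q)).2,
      map_sub, sub_eq_zero]
    exact (QCoh.map_app π (homOfLE (le_top : W q ≤ ⊤)) z).symm.trans ((congrArg _ hz).trans (hw q))
  letI : Module A (secA f' G' ⊤) := Module.compHom _ φ
  haveI : IsScalarTower A k (secA f' G' ⊤) := IsScalarTower.of_algebraMap_smul fun _ _ => rfl
  let lΛ : secA f G ⊤ →ₗ[A] secA f' G' ⊤ := BCCoh.linOf φ (BCCoh.bcHom φ f f' g H G ⊤ ⊤ le_top)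
  have hbc : IsBaseChange k lΛ := isBaseChange_of_surjective hφ hsurj hker
  have hfr : Module.finrank k (k ⊗[A] secA f G ⊤) = Module.finrank k (secA f' G' ⊤) := hbc.equiv.finrank_eq
  let e0 : Coh.HH X' G' 0 ≃ₗ[k] secA f' G' ⊤ :=
    { ProjCoh.H0top G' with
      map_smul' := fun r x => by
        refine (ProjCoh.H0top_smul G' r x).trans ?_
        show (show Γ(X', ⊤) from Coh.toGlobal f' r) • ProjCoh.H0top G' x = (show Γ(X', ⊤) from psiR f' ⊤ r) • ProjCoh.H0top G' x
        refine congrArg (fun b : Γ(X', ⊤) => b • ProjCoh.H0top G' x) ?_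
        exact (congrArg (fun φ ↦ (CommRingCat.Hom.hom φ) _) (X'.presheaf.map_id (op ⊤))).symm }
  have hvan : ∀ i, 1 ≤ i → Subsingleton (Coh.HH X' G' i) := by
    intro i hi
    obtain ⟨d⟩ := c.nonempty_tensorPow_iso (Iso.refl L) n
    obtain ⟨q⟩ := c.nonempty_tensor_modTwist F n
    obtain ⟨e⟩ := EulerConst10.nonempty_pullback_tensorPows g F (fun _ : Fin 1 => L) (fun _ => hL) (fun _ => n)
    let e' : CohB1.tensorMod F' (CohB1.tensorPow L' n) ≅ G' :=
      e.symm ≪≫ (Scheme.Modules.pullback g).mapIso (((DCoh.tensorBi (X := X)).obj F).mapIso d ≪≫ q)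
    haveI := hN₁ n (le_trans (le_max_right _ _) hn) i hi
    exact (Euler.hhEquiv (A := k) e' i).toEquiv.symm.subsingleton
  have hpt : (Spec.map (CommRingCat.ofHom φ)) (IsLocalRing.closedPoint k) = IsLocalRing.closedPoint A :=
    IsLocalRing.comap_closedPoint φ
  rw [← hpt, ← euler_pullback_field (Spec.map (CommRingCat.ofHom φ)) g f' H G, Euler.euler_eq_sum k G' hvan,
    Finset.sum_range_one, pow_zero, one_mul, e0.finrank_eq, hfr]

end GrothLib.HilbFlat10
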