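import Mathlib.RingTheory.Flat.EquationalCriterion
import Mathlib.RingTheory.Flat.Stability
import Mathlib.RingTheory.TensorProduct.IsBaseChangePi
import Mathlib.RingTheory.Localization.BaseChange
import Groth.Agent.Lib.FlatModel.Descent
import Groth.Agent.Lib.FibreFlat.OpenNoetherian

/-!
# Flatness of the limit of a system of flat modules
-/

set_option autoImplicit false
set_option linter.all false

universe u

open TensorProduct

namespace GrothLib.HilbFlat10

variable {R : Type u} [CommRing R]

/-- A module exhausted by a system of flat modules, with kernels eventually killed, is flat. -/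
theorem flat_of_system {M : ℕ → Type u} [∀ N, AddCommGroup (M N)] [∀ N, Module R (M N)]
    {T : Type u} [AddCommGroup T] [Module R T] (σ : ∀ {N N' : ℕ}, N ≤ N' → M N →ₗ[R] M N')
    (r : ∀ N, M N →ₗ[R] T) (hr : ∀ {N N'} (h : N ≤ N'), r N' ∘ₗ σ h = r N)
    (hsurj : ∀ t : T, ∃ N₀, ∀ N, N₀ ≤ N → t ∈ LinearMap.range (r N))
    (hker : ∀ N (x : M N), r N x = 0 → ∃ N', ∃ h : N ≤ N', σ h x = 0)
    (hflat : ∀ N, Module.Flat R (M N)) : Module.Flat R T := by
  classical
  refine Module.Flat.iff_forall_isTrivialRelation.2 fun {l f x} hfx => ?_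
  choose N₀ hN₀ using fun i => hsurj (x i)
  let N := Finset.univ.sup N₀
  choose y hy using fun i => hN₀ i N (Finset.le_sup (Finset.mem_univ i))
  obtain ⟨N', h, h0⟩ := hker N (∑ i, f i • y i) (by simp [map_sum, hy, hfx])
  rw [map_sum] at h0
  simp only [map_smul] at h0
  haveI := hflat N'
  obtain ⟨k, a, z, hyz, ha⟩ := Module.Flat.isTrivialRelation_of_sum_smul_eq_zero (R := R) h0
  refine ⟨k, a, fun j => r N' (z j), fun i => ?_, ha⟩
  rw [← hy i, ← hr h, LinearMap.comp_apply, show σ h (y i) = _ from hyz i, map_sum]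
  simp only [map_smul]

/-- The same after localisation. -/
theorem flat_localized_of_system (S : Submonoid R) {M : ℕ → Type u} [∀ N, AddCommGroup (M N)]
    [∀ N, Module R (M N)] {T : Type u} [AddCommGroup T] [Module R T]
    (σ : ∀ {N N' : ℕ}, N ≤ N' → M N →ₗ[R] M N') (r : ∀ N, M N →ₗ[R] T)
    (hr : ∀ {N N'} (h : N ≤ N'), r N' ∘ₗ σ h = r N)
    (hsurj : ∀ t : T, ∃ N₀, ∀ N, N₀ ≤ N → t ∈ LinearMap.range (r N))
    (hker : ∀ N (x : M N), r N x = 0 → ∃ N', ∃ h : N ≤ N', σ h x = 0)
    (hflat : ∀ N, Module.Flat R (LocalizedModule S (M N))) : Module.Flat R (LocalizedModule S T) := by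
  have key : ∀ (N : ℕ) (m : M N) (s : S) {Q : Type u} [AddCommGroup Q] [Module R Q] (g : M N →ₗ[R] Q),
      IsLocalizedModule.map S (LocalizedModule.mkLinearMap S (M N)) (LocalizedModule.mkLinearMap S Q) g
        (LocalizedModule.mk m s) = LocalizedModule.mk (g m) s := fun N m s Q _ _ g => by
    have h := IsLocalizedModule.map_mk' S (LocalizedModule.mkLinearMap S (M N))
      (LocalizedModule.mkLinearMap S Q) g m s
    rwa [← IsLocalizedModule.mk_eq_mk', ← IsLocalizedModule.mk_eq_mk'] at h
  refine flat_of_system (M := fun N => LocalizedModule S (M N))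
    (fun {N N'} h => IsLocalizedModule.map S (LocalizedModule.mkLinearMap S (M N))
      (LocalizedModule.mkLinearMap S (M N')) (σ h))
    (fun N => IsLocalizedModule.map S (LocalizedModule.mkLinearMap S (M N))
      (LocalizedModule.mkLinearMap S T) (r N)) ?_ ?_ ?_ hflat
  · intro N N' h
    refine LinearMap.ext fun z => ?_
    induction z using LocalizedModule.induction_on with
    | _ m s => rw [LinearMap.comp_apply, key, key, key, ← LinearMap.comp_apply, hr h]
  · intro z
    induction z using LocalizedModule.induction_on with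
    | _ t s =>
      obtain ⟨N₀, hN₀⟩ := hsurj t
      refine ⟨N₀, fun N hN => ?_⟩
      obtain ⟨m, rfl⟩ := hN₀ N hN
      exact ⟨LocalizedModule.mk m s, key N m s (r N)⟩
  · intro N z hz
    induction z using LocalizedModule.induction_on with
    | _ m s =>
      rw [key] at hz
      obtain ⟨v, hv⟩ := LocalizedModule.mk_eq.1 (hz.trans (LocalizedModule.zero_mk 1).symm)
      simp only [one_smul, smul_zero] at hv
      obtain ⟨N', h, hσ⟩ := hker N ((v : R) • m) (by rw [map_smul]; exact hv)
      refine ⟨N', h, ?_⟩
      rw [key, ← LocalizedModule.mk_cancel_common_left v s (σ h m)]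
      rw [map_smul] at hσ
      rw [Submonoid.smul_def, hσ, LocalizedModule.zero_mk]

/-- Flatness of a localisation is inherited by finer localisations. -/
theorem flat_localizedModule_of {A M : Type u} [CommRing A] [Algebra R A] [AddCommGroup M] [Module A M]
    [Module R M] [IsScalarTower R A M] (S : Submonoid R) [Module.Flat R (LocalizedModule S M)]
    (T : Submonoid A) (hST : ∀ s ∈ S, algebraMap R A s ∈ T) : Module.Flat R (LocalizedModule T M) := by
  rw [Module.Flat.iff_lTensor_preserves_injective_linearMap]
  intro N N' _ _ _ _ f hf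
  refine FibreFlat.lTensor_injective_of_isLocalizedModule T (LocalizedModule.mkLinearMap T M) f fun z hz => ?_
  let g := LocalizedModule.mkLinearMap S M
  have h0 : g.rTensor N z = 0 :=
    Module.Flat.lTensor_preserves_injective_linearMap (M := LocalizedModule S M) f hf (by
      rw [map_zero, ← LinearMap.comp_apply, LinearMap.lTensor_comp_rTensor,
        ← LinearMap.rTensor_comp_lTensor, LinearMap.comp_apply, hz, map_zero])
  obtain ⟨s, hs⟩ := (IsLocalizedModule.eq_zero_iff S (TensorProduct.AlgebraTensorModule.rTensor R N g)).1 h0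
  refine ⟨algebraMap R A s, hST s s.2, ?_⟩
  rw [algebraMap_smul]
  exact hs

/-- Flatness does not change along a bijective ring map. -/
theorem flat_of_bijective {A B : Type u} [CommRing A] [CommRing B] [Algebra A B]
    (h : Function.Bijective (algebraMap A B)) (L : Type u) [AddCommGroup L] [Module A L] [Module B L]
    [IsScalarTower A B L] [Module.Flat A L] : Module.Flat B L := by
  haveI : IsLocalization (⊥ : Submonoid A) B :=
    IsLocalization.isLocalization_of_algEquiv _ ((IsLocalization.atUnits A (⊥ : Submonoid A)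
      (S := Localization (⊥ : Submonoid A)) (by simp)).symm.trans
      (AlgEquiv.ofBijective (Algebra.ofId A B) h))
  haveI : IsLocalizedModule (⊥ : Submonoid A) (LinearMap.id : L →ₗ[A] L) :=
    ⟨fun m => by rw [(Submonoid.mem_bot.1 m.2 : (m : A) = 1), map_one]; exact isUnit_one,
      fun y => ⟨(y, 1), by simp⟩, fun h => ⟨1, by simpa using h⟩⟩
  exact Module.Flat.of_isLocalizedModule (R := A) B (⊥ : Submonoid A) (LinearMap.id : L →ₗ[A] L)

end GrothLib.HilbFlat10
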